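/-
The orbits of a sextet stabiliser on sextets.
-/
import Cfsg.Agent.Lib.Golay.Orbits.Sextet

set_option autoImplicit false
set_option maxRecDepth 1000000

namespace Cfsg.Agent.Lib.Golay.Suborbit.Sextet

open Cfsg
open scoped Pointwise
open Cfsg.Agent.Lib.Orbit
open Cfsg.Agent.Lib.Golay.StabCert
open Cfsg.Agent.Lib.Golay.Orbits.Sextet

theorem checks : famCoding.gensFix gens base = true ∧ famCoding.orbsOk gens orbits = true ∧
    distinctOk canonFam key (orbits.flatMap Coding.orbCodes) = true ∧
    allGens.all inM24 = true ∧ famCoding.linksOk allGens orbits [0] transLinks = true ∧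
    famCoding.maxOk gens orbits maxWit = true := by
  decide +kernel

theorem sizes : (orbits.map fun o => (Coding.orbCodes o).length) = [1, 90, 240, 1440] := by
  decide +kernel

/-- The test for a code of a sextet. -/
def isSextetCode (L : List ℕ) : Bool :=
  canonFam L && L.length == 6 && L.all (fun m => popCount m == 4) &&
    L.all fun a => L.all fun b => a == b || (isCodeMask (a ||| b) && popCount (a ||| b) == 8)

theorem famOf_sextet {L : List ℕ} (h : isSextetCode L = true) : famOf L ∈ sextets := by
  simp only [isSextetCode, Bool.and_eq_true, beq_iff_eq, List.all_eq_true, Bool.or_eq_true] at h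
  obtain ⟨⟨⟨hc, hl⟩, h4⟩, hu⟩ := h
  obtain ⟨hp, hlt⟩ := canonFam_spec hc
  have hnd : (L.map ptsOf).Nodup := hp.nodup.map_on fun x hx y hy e =>
    ptsOf_injective (hlt x hx) (hlt y hy) e
  refine ⟨by rw [famOf, List.toFinset_card_of_nodup hnd, List.length_map, hl], ?_, ?_⟩
  · intro t ht
    obtain ⟨m, hm, rfl⟩ := mem_famOf.mp ht
    rw [card_ptsOf, h4 m hm]
  · intro t ht u hu' hne
    obtain ⟨a, ha, rfl⟩ := mem_famOf.mp ht
    obtain ⟨b, hb, rfl⟩ := mem_famOf.mp hu'
    rcases hu a ha b hb with e | e
    · exact absurd (congrArg ptsOf e) hne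
    · rw [← ptsOf_lor]
      exact mem_octads_of_mask (by simp [e.1, e.2])

theorem roots_ok : orbits.all (fun o => isSextetCode o.1) = true := by decide +kernel

theorem decomp : famCoding.Decomp sextets gens base orbits where
  fix := checks.1
  ok := checks.2.1
  inv := fun g _ hS => smul_sextet g hS
  roots := fun o ho => famOf_sextet (List.all_eq_true.mp roots_ok o ho)
  nodup := nodup_fam key checks.2.2.1
  count := by
    rw [ncard_sextets, List.length_flatMap, sizes]
    rfl
  fin := Set.toFinite _

/-- The invariant separating the orbits. -/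
def sig (X : Finset (Finset GolayPt)) : ℕ × ℕ :=
  (meetProfile (famOf base) X 0, meetProfile (famOf base) X 2)

theorem sig_smul (g : ↥M24) (hg : g • famOf base = famOf base) (X : Finset (Finset GolayPt)) :
    sig (g • X) = sig X := by
  have h : ∀ k, meetProfile (famOf base) (g • X) k = meetProfile (famOf base) X k := fun k => by
    conv_lhs => rw [← hg]
    exact meetProfile_smul g _ _ k
  simp only [sig, h]

theorem base_canon : canonFam base = true ∧ orbits.all (fun o => canonFam o.1) = true := by
  decide +kernel

theorem sig_code {o : List ℕ × OrbTree (List ℕ)} (ho : o ∈ orbits) :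
    sig (famOf o.1) = (meetProfileCode base o.1 0, meetProfileCode base o.1 2) := by
  have h := List.all_eq_true.mp base_canon.2 o ho
  rw [sig, meetProfile_code base_canon.1 h, meetProfile_code base_canon.1 h]

theorem sep : (orbits.map fun o => sig (famOf o.1)).Nodup := by
  rw [List.map_congr_left (fun o ho => sig_code ho)]
  decide +kernel

theorem transitive {S : Finset (Finset GolayPt)} (hS : S ∈ sextets) :
    ∃ g : ↥M24, g • famOf base = S :=
  decomp.transitive famCoding (t := tree0) (rest := [(root1, tree1), (root2, tree2), (root3, tree3)])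
    rfl (fun a ha => List.all_eq_true.mp checks.2.2.2.1 a ha) checks.2.2.2.2.1 hS

theorem root_ne : famOf root1 ≠ famOf base := by
  intro h
  have := famOf_injOn (by decide +kernel) base_canon.1 h
  revert this
  decide +kernel

theorem isCoatom_stabilizer {S : Finset (Finset GolayPt)} (hS : S ∈ sextets) :
    IsCoatom (MulAction.stabilizer ↥M24 S) := by
  obtain ⟨g, rfl⟩ := transitive hS
  refine isCoatom_stabilizer_smul g ?_
  exact decomp.isCoatom (D := famCoding) (t := tree0) (o1 := (root1, tree1))
    (rest := [(root2, tree2), (root3, tree3)]) rfl root_ne checks.2.2.2.2.2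

theorem orbit_sizes {S : Finset (Finset GolayPt)} (hS : S ∈ sextets) :
    ∃ X₁ ∈ sextets, ∃ X₂ ∈ sextets, ∃ X₃ ∈ sextets,
      (MulAction.orbit ↥(MulAction.stabilizer ↥M24 S) X₁).ncard = 90 ∧
      (MulAction.orbit ↥(MulAction.stabilizer ↥M24 S) X₂).ncard = 240 ∧
      (MulAction.orbit ↥(MulAction.stabilizer ↥M24 S) X₃).ncard = 1440 ∧
      sextets = {S} ∪ MulAction.orbit ↥(MulAction.stabilizer ↥M24 S) X₁ ∪
        MulAction.orbit ↥(MulAction.stabilizer ↥M24 S) X₂ ∪
        MulAction.orbit ↥(MulAction.stabilizer ↥M24 S) X₃ := by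
  obtain ⟨g, rfl⟩ := transitive hS
  have hm : ∀ o ∈ orbits, g • famOf o.1 ∈ sextets := fun o ho =>
    smul_sextet g (famOf_sextet (List.all_eq_true.mp roots_ok o ho))
  have m1 : (root1, tree1) ∈ orbits := List.mem_cons_of_mem _ List.mem_cons_self
  have m2 : (root2, tree2) ∈ orbits :=
    List.mem_cons_of_mem _ (List.mem_cons_of_mem _ List.mem_cons_self)
  have m3 : (root3, tree3) ∈ orbits :=
    List.mem_cons_of_mem _ (List.mem_cons_of_mem _ (List.mem_cons_of_mem _ List.mem_cons_self))
  refine ⟨_, hm _ m1, _, hm _ m2, _, hm _ m3, ?_, ?_, ?_, ?_⟩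
  · rw [ncard_orbit_stabilizer_smul]
    exact (decomp.ncard_orbit sig sig_smul sep m1).trans (congrArg (fun l => List.getD l 1 0) sizes)
  · rw [ncard_orbit_stabilizer_smul]
    exact (decomp.ncard_orbit sig sig_smul sep m2).trans (congrArg (fun l => List.getD l 2 0) sizes)
  · rw [ncard_orbit_stabilizer_smul]
    exact (decomp.ncard_orbit sig sig_smul sep m3).trans (congrArg (fun l => List.getD l 3 0) sizes)
  · ext X
    constructor
    · intro hX
      have hX' : g⁻¹ • X ∈ sextets := smul_sextet _ hX
      obtain ⟨o, ho, h⟩ := decomp.exists_root hX'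
      have key : X ∈ MulAction.orbit ↥(MulAction.stabilizer ↥M24 (g • famOf base)) (g • famOf o.1) := by
        rw [orbit_stabilizer_smul, Set.mem_smul_set_iff_inv_smul_mem]
        exact h
      simp only [orbits, List.mem_cons, List.not_mem_nil, or_false] at ho
      rcases ho with rfl | rfl | rfl | rfl
      · exact Or.inl (Or.inl (Or.inl (Coding.mem_orbit_stabilizer key)))
      · exact Or.inl (Or.inl (Or.inr key))
      · exact Or.inl (Or.inr key)
      · exact Or.inr key
    · rintro (((h | h) | h) | h)
      · rw [Set.mem_singleton_iff.mp h]; exact hS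
      all_goals
        obtain ⟨k, rfl⟩ := h
        refine smul_sextet _ ?_
      · exact hm _ m1
      · exact hm _ m2
      · exact hm _ m3

end Cfsg.Agent.Lib.Golay.Suborbit.Sextet
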