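/-
The orbits of a trio stabiliser on trios.
-/
import Cfsg.Agent.Lib.Golay.Orbits.Trio

set_option autoImplicit false
set_option maxRecDepth 1000000

namespace Cfsg.Agent.Lib.Golay.Suborbit.Trio

open Cfsg
open scoped Pointwise
open Cfsg.Agent.Lib.Orbit
open Cfsg.Agent.Lib.Golay.StabCert
open Cfsg.Agent.Lib.Golay.Orbits.Trio

theorem checks : famCoding.gensFix gens base = true ∧ famCoding.orbsOk gens orbits = true ∧
    distinctOk canonFam key (orbits.flatMap Coding.orbCodes) = true ∧
    allGens.all inM24 = true ∧ famCoding.linksOk allGens orbits [0] transLinks = true ∧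
    famCoding.maxOk gens orbits maxWit = true := by
  decide +kernel

theorem sizes : (orbits.map fun o => (Coding.orbCodes o).length) = [1, 42, 56, 1008, 2688] := by
  decide +kernel

/-- The test for a code of a trio. -/
def isTrioCode (L : List ℕ) : Bool :=
  canonFam L && L.length == 3 && L.all (fun m => isCodeMask m && popCount m == 8) &&
    L.all fun a => L.all fun b => a == b || a &&& b == 0

theorem famOf_trio {L : List ℕ} (h : isTrioCode L = true) : famOf L ∈ trios := by
  simp only [isTrioCode, Bool.and_eq_true, beq_iff_eq, List.all_eq_true, Bool.or_eq_true] at h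
  obtain ⟨⟨⟨hc, hl⟩, h8⟩, hu⟩ := h
  obtain ⟨hp, hlt⟩ := canonFam_spec hc
  have hnd : (L.map ptsOf).Nodup := hp.nodup.map_on fun x hx y hy e =>
    ptsOf_injective (hlt x hx) (hlt y hy) e
  refine ⟨by rw [famOf, List.toFinset_card_of_nodup hnd, List.length_map, hl], ?_, ?_⟩
  · intro t ht
    obtain ⟨m, hm, rfl⟩ := mem_famOf.mp ht
    exact mem_octads_of_mask (by simp [h8 m hm])
  · intro t ht u hu' hne
    obtain ⟨a, ha, rfl⟩ := mem_famOf.mp ht
    obtain ⟨b, hb, rfl⟩ := mem_famOf.mp hu'
    rcases hu a ha b hb with e | e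
    · exact absurd (congrArg ptsOf e) hne
    · rw [Finset.disjoint_iff_inter_eq_empty, ← ptsOf_land, e, ptsOf_zero]

theorem roots_ok : orbits.all (fun o => isTrioCode o.1) = true := by decide +kernel

theorem decomp : famCoding.Decomp trios gens base orbits where
  fix := checks.1
  ok := checks.2.1
  inv := fun g _ hS => smul_trio g hS
  roots := fun o ho => famOf_trio (List.all_eq_true.mp roots_ok o ho)
  nodup := nodup_fam key checks.2.2.1
  count := by
    rw [ncard_trios, List.length_flatMap, sizes]
    rfl
  fin := Set.toFinite _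

/-- The invariant separating the orbits. -/
def sig (X : Finset (Finset GolayPt)) : ℕ × ℕ :=
  (meetProfile (famOf base) X 0, meetProfile (famOf base) X 4)

theorem sig_smul (g : ↥M24) (hg : g • famOf base = famOf base) (X : Finset (Finset GolayPt)) :
    sig (g • X) = sig X := by
  have h : ∀ k, meetProfile (famOf base) (g • X) k = meetProfile (famOf base) X k := fun k => by
    conv_lhs => rw [← hg]
    exact meetProfile_smul g _ _ k
  simp only [sig, h]

theorem base_canon : canonFam base = true ∧ orbits.all (fun o => canonFam o.1) = true := by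
  decide +kernel

theorem sig_code {o : List ℕ × OrbTree (List ℕ)} (ho : o ∈ orbits) :
    sig (famOf o.1) = (meetProfileCode base o.1 0, meetProfileCode base o.1 4) := by
  have h := List.all_eq_true.mp base_canon.2 o ho
  rw [sig, meetProfile_code base_canon.1 h, meetProfile_code base_canon.1 h]

theorem sep : (orbits.map fun o => sig (famOf o.1)).Nodup := by
  rw [List.map_congr_left (fun o ho => sig_code ho)]
  decide +kernel

theorem transitive {S : Finset (Finset GolayPt)} (hS : S ∈ trios) :
    ∃ g : ↥M24, g • famOf base = S :=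
  decomp.transitive famCoding (t := tree0) (rest := [(root1, tree1), (root2, tree2), (root3, tree3), (root4, tree4)])
    rfl (fun a ha => List.all_eq_true.mp checks.2.2.2.1 a ha) checks.2.2.2.2.1 hS

theorem root_ne : famOf root1 ≠ famOf base := by
  intro h
  have := famOf_injOn (by decide +kernel) base_canon.1 h
  revert this
  decide +kernel

theorem isCoatom_stabilizer {S : Finset (Finset GolayPt)} (hS : S ∈ trios) :
    IsCoatom (MulAction.stabilizer ↥M24 S) := by
  obtain ⟨g, rfl⟩ := transitive hS
  refine isCoatom_stabilizer_smul g ?_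
  exact decomp.isCoatom (D := famCoding) (t := tree0) (o1 := (root1, tree1))
    (rest := [(root2, tree2), (root3, tree3), (root4, tree4)]) rfl root_ne checks.2.2.2.2.2

theorem orbit_sizes {S : Finset (Finset GolayPt)} (hS : S ∈ trios) :
    ∃ X₁ ∈ trios, ∃ X₂ ∈ trios, ∃ X₃ ∈ trios, ∃ X₄ ∈ trios,
      (MulAction.orbit ↥(MulAction.stabilizer ↥M24 S) X₁).ncard = 42 ∧
      (MulAction.orbit ↥(MulAction.stabilizer ↥M24 S) X₂).ncard = 56 ∧
      (MulAction.orbit ↥(MulAction.stabilizer ↥M24 S) X₃).ncard = 1008 ∧
      (MulAction.orbit ↥(MulAction.stabilizer ↥M24 S) X₄).ncard = 2688 ∧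
      trios = {S} ∪ MulAction.orbit ↥(MulAction.stabilizer ↥M24 S) X₁ ∪
        MulAction.orbit ↥(MulAction.stabilizer ↥M24 S) X₂ ∪
        MulAction.orbit ↥(MulAction.stabilizer ↥M24 S) X₃ ∪
        MulAction.orbit ↥(MulAction.stabilizer ↥M24 S) X₄ := by
  obtain ⟨g, rfl⟩ := transitive hS
  have hm : ∀ o ∈ orbits, g • famOf o.1 ∈ trios := fun o ho =>
    smul_trio g (famOf_trio (List.all_eq_true.mp roots_ok o ho))
  have m1 : (root1, tree1) ∈ orbits := List.mem_cons_of_mem _ List.mem_cons_self
  have m2 : (root2, tree2) ∈ orbits :=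
    List.mem_cons_of_mem _ (List.mem_cons_of_mem _ List.mem_cons_self)
  have m3 : (root3, tree3) ∈ orbits :=
    List.mem_cons_of_mem _ (List.mem_cons_of_mem _ (List.mem_cons_of_mem _ List.mem_cons_self))
  have m4 : (root4, tree4) ∈ orbits :=
    List.mem_cons_of_mem _ (List.mem_cons_of_mem _ (List.mem_cons_of_mem _
      (List.mem_cons_of_mem _ List.mem_cons_self)))
  have hcard : ∀ o ∈ orbits, ∀ k, (Coding.orbCodes o).length = k →
      (MulAction.orbit ↥(MulAction.stabilizer ↥M24 (g • famOf base)) (g • famOf o.1)).ncard = k :=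
    fun o ho k hk => by
      rw [ncard_orbit_stabilizer_smul, ← hk]
      exact decomp.ncard_orbit sig sig_smul sep ho
  refine ⟨_, hm _ m1, _, hm _ m2, _, hm _ m3, _, hm _ m4,
    hcard _ m1 _ (congrArg (fun l => List.getD l 1 0) sizes),
    hcard _ m2 _ (congrArg (fun l => List.getD l 2 0) sizes),
    hcard _ m3 _ (congrArg (fun l => List.getD l 3 0) sizes),
    hcard _ m4 _ (congrArg (fun l => List.getD l 4 0) sizes), ?_⟩
  ext X
  constructor
  · intro hX
    have hX' : g⁻¹ • X ∈ trios := smul_trio _ hX
    obtain ⟨o, ho, h⟩ := decomp.exists_root hX'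
    have key : X ∈ MulAction.orbit ↥(MulAction.stabilizer ↥M24 (g • famOf base)) (g • famOf o.1) := by
      rw [orbit_stabilizer_smul, Set.mem_smul_set_iff_inv_smul_mem]
      exact h
    simp only [orbits, List.mem_cons, List.not_mem_nil, or_false] at ho
    rcases ho with rfl | rfl | rfl | rfl | rfl
    · exact Or.inl (Or.inl (Or.inl (Or.inl (Coding.mem_orbit_stabilizer key))))
    · exact Or.inl (Or.inl (Or.inl (Or.inr key)))
    · exact Or.inl (Or.inl (Or.inr key))
    · exact Or.inl (Or.inr key)
    · exact Or.inr key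
  · rintro ((((h | h) | h) | h) | h)
    · rw [Set.mem_singleton_iff.mp h]; exact hS
    all_goals
      obtain ⟨k, rfl⟩ := h
      refine smul_trio _ ?_
    · exact hm _ m1
    · exact hm _ m2
    · exact hm _ m3
    · exact hm _ m4

end Cfsg.Agent.Lib.Golay.Suborbit.Trio
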