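/-
The orbits of the stabiliser of a complementary pair of dodecads on these pairs.
-/
import Cfsg.Agent.Lib.Golay.Orbits.DodecadPair

set_option autoImplicit false
set_option maxRecDepth 1000000

namespace Cfsg.Agent.Lib.Golay.Suborbit.DodecadPair

open Cfsg
open scoped Pointwise
open Cfsg.Agent.Lib.Orbit
open Cfsg.Agent.Lib.Golay.StabCert
open Cfsg.Agent.Lib.Golay.Orbits.DodecadPair

theorem checks : famCoding.gensFix gens base = true ∧ famCoding.orbsOk gens orbits = true ∧
    distinctOk canonFam key (orbits.flatMap Coding.orbCodes) = true ∧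
    allGens.all inM24 = true ∧ famCoding.linksOk allGens orbits [0] transLinks = true ∧
    famCoding.maxOk gens orbits maxWit = true := by
  decide +kernel

theorem sizes : (orbits.map fun o => (Coding.orbCodes o).length) = [1, 495, 792] := by
  decide +kernel

/-- The complementary pairs of dodecads. -/
def pairs : Set (Finset (Finset GolayPt)) := (fun d => {d, dᶜ}) '' dodecads

theorem smul_compl_finset (g : ↥M24) (d : Finset GolayPt) : g • dᶜ = (g • d)ᶜ := by
  ext p
  simp [← Finset.inv_smul_mem_iff]

theorem smul_pair (g : ↥M24) (d : Finset GolayPt) :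
    g • ({d, dᶜ} : Finset (Finset GolayPt)) = {g • d, (g • d)ᶜ} := by
  rw [Finset.smul_finset_insert, Finset.smul_finset_singleton, smul_compl_finset]

theorem dodecad_compl {d : Finset GolayPt} (hd : d ∈ dodecads) : dᶜ ∈ dodecads := by
  rw [mem_dodecads_iff] at hd ⊢
  exact ⟨hd.1.compl, by rw [Finset.card_compl, hd.2, card_golayPt]⟩

theorem ncard_pairs : pairs.ncard = 1288 := by
  classical
  set A := dodecads.toFinite.toFinset with hA
  have hB : pairs = ↑(A.image fun d => ({d, dᶜ} : Finset (Finset GolayPt))) := by
    simp [pairs, hA]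
  have h := Finset.card_eq_sum_card_fiberwise (f := fun d => ({d, dᶜ} : Finset (Finset GolayPt)))
    (s := A) (t := A.image fun d => ({d, dᶜ} : Finset (Finset GolayPt)))
    fun d hd => Finset.mem_coe.mpr (Finset.mem_image_of_mem _ hd)
  have hfib : ∀ S ∈ A.image fun d => ({d, dᶜ} : Finset (Finset GolayPt)),
      (A.filter fun d => ({d, dᶜ} : Finset (Finset GolayPt)) = S).card = 2 := by
    intro S hS
    obtain ⟨d, hd, rfl⟩ := Finset.mem_image.mp hS
    rw [hA, Set.Finite.mem_toFinset] at hd
    have e : (A.filter fun x => ({x, xᶜ} : Finset (Finset GolayPt)) = {d, dᶜ}) = {d, dᶜ} := by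
      ext x
      rw [Finset.mem_filter]
      constructor
      · rintro ⟨-, h⟩; rw [← h]; exact Finset.mem_insert_self _ _
      · intro hx
        simp only [Finset.mem_insert, Finset.mem_singleton] at hx
        rcases hx with rfl | rfl
        · exact ⟨by simpa [hA] using hd, rfl⟩
        · exact ⟨by simpa [hA] using dodecad_compl hd, by rw [compl_compl, Finset.pair_comm]⟩
    rw [e, Finset.card_pair]
    intro he
    obtain ⟨p, hp⟩ := Finset.card_pos.mp (show 0 < d.card by rw [(mem_dodecads_iff.mp hd).2]; norm_num)
    exact (Finset.mem_compl.mp (he ▸ hp)) hp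
  rw [Finset.sum_congr rfl hfib, Finset.sum_const, smul_eq_mul] at h
  have hA' : A.card = 2576 := by
    rw [hA, ← Set.ncard_eq_toFinset_card _ dodecads.toFinite, ncard_dodecads]
  rw [hA'] at h
  rw [hB, Set.ncard_coe_finset]
  omega

theorem smul_mem_pairs (g : ↥M24) {S : Finset (Finset GolayPt)} (hS : S ∈ pairs) : g • S ∈ pairs := by
  obtain ⟨d, hd, rfl⟩ := hS
  exact ⟨g • d, M24_dodecad g.2 hd, (smul_pair g d).symm⟩

/-- The test for a code of a pair of complementary dodecads. -/
def isPairCode (L : List ℕ) : Bool :=
  match L with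
  | [a, b] => isCodeMask a && popCount a == 12 && decide (a < 2 ^ 24) && a ^^^ b == 2 ^ 24 - 1
  | _ => false

theorem famOf_pair {L : List ℕ} (h : isPairCode L = true) : famOf L ∈ pairs := by
  unfold isPairCode at h
  split at h
  · next a b =>
    simp only [Bool.and_eq_true, beq_iff_eq, decide_eq_true_eq] at h
    obtain ⟨⟨⟨hc, hp⟩, -⟩, hx⟩ := h
    refine ⟨ptsOf a, mem_dodecads_of_mask (by simp [hc, hp]), ?_⟩
    have hb : (ptsOf a)ᶜ = ptsOf b := by
      ext p
      have := congrArg (fun m => Nat.testBit m (idx p).val) hx
      simp only [Nat.testBit_xor, Nat.testBit_two_pow_sub_one, (idx p).isLt, decide_true] at this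
      rw [Finset.mem_compl, mem_ptsOf, mem_ptsOf]
      revert this
      cases a.testBit (idx p).val <;> cases b.testBit (idx p).val <;> simp
    simp [famOf, hb]
  · exact absurd h Bool.false_ne_true

theorem roots_ok : orbits.all (fun o => isPairCode o.1) = true := by decide +kernel

theorem decomp : famCoding.Decomp pairs gens base orbits where
  fix := checks.1
  ok := checks.2.1
  inv := fun g _ hS => smul_mem_pairs g hS
  roots := fun o ho => famOf_pair (List.all_eq_true.mp roots_ok o ho)
  nodup := nodup_fam key checks.2.2.1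
  count := by
    rw [ncard_pairs, List.length_flatMap, sizes]
    rfl
  fin := Set.toFinite _

/-- The invariant separating the orbits. -/
def sig (X : Finset (Finset GolayPt)) : ℕ × ℕ :=
  (meetProfile (famOf base) X 0, meetProfile (famOf base) X 4)

theorem sig_smul (g : ↥M24) (hg : g • famOf base = famOf base) (X : Finset (Finset GolayPt)) :
    sig (g • X) = sig X := by
  have h : ∀ k, meetProfile (famOf base) (g • X) k = meetProfile (famOf base) X k := fun k => by
    conv_lhs => rw [← hg]
    exact meetProfile_smul g _ _ k
  simp only [sig, h]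

theorem base_canon : canonFam base = true ∧ orbits.all (fun o => canonFam o.1) = true := by
  decide +kernel

theorem sig_code {o : List ℕ × OrbTree (List ℕ)} (ho : o ∈ orbits) :
    sig (famOf o.1) = (meetProfileCode base o.1 0, meetProfileCode base o.1 4) := by
  have h := List.all_eq_true.mp base_canon.2 o ho
  rw [sig, meetProfile_code base_canon.1 h, meetProfile_code base_canon.1 h]

theorem sep : (orbits.map fun o => sig (famOf o.1)).Nodup := by
  rw [List.map_congr_left (fun o ho => sig_code ho)]
  decide +kernel

theorem transitive {S : Finset (Finset GolayPt)} (hS : S ∈ pairs) :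
    ∃ g : ↥M24, g • famOf base = S :=
  decomp.transitive famCoding (t := tree0) (rest := [(root1, tree1), (root2, tree2)])
    rfl (fun a ha => List.all_eq_true.mp checks.2.2.2.1 a ha) checks.2.2.2.2.1 hS

theorem root_ne : famOf root1 ≠ famOf base := by
  intro h
  have := famOf_injOn (by decide +kernel) base_canon.1 h
  revert this
  decide +kernel

theorem isCoatom_stabilizer {S : Finset (Finset GolayPt)} (hS : S ∈ pairs) :
    IsCoatom (MulAction.stabilizer ↥M24 S) := by
  obtain ⟨g, rfl⟩ := transitive hS
  refine isCoatom_stabilizer_smul g ?_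
  exact decomp.isCoatom (D := famCoding) (t := tree0) (o1 := (root1, tree1))
    (rest := [(root2, tree2)]) rfl root_ne checks.2.2.2.2.2

end Cfsg.Agent.Lib.Golay.Suborbit.DodecadPair
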