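/-
The orbits of the stabiliser of a triad on triads.
-/
import Cfsg.Agent.Lib.Golay.Orbits.Triad

set_option autoImplicit false
set_option maxRecDepth 1000000

namespace Cfsg.Agent.Lib.Golay.Suborbit.Triad

open Cfsg
open scoped Pointwise
open Cfsg.Agent.Lib.Orbit
open Cfsg.Agent.Lib.Golay.StabCert
open Cfsg.Agent.Lib.Golay.Orbits.Triad

theorem checks : maskCoding.gensFix gens base = true ∧ maskCoding.orbsOk gens orbits = true ∧
    distinctOk (fun m => decide (m < 2 ^ 24)) (fun m => m % 41171) (orbits.flatMap Coding.orbCodes) = true ∧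
    allGens.all inM24 = true ∧ maskCoding.linksOk allGens orbits [0] transLinks = true ∧
    maskCoding.maxOk gens orbits maxWit = true := by
  decide +kernel

theorem sizes : (orbits.map fun o => (Coding.orbCodes o).length) = [1, 63, 210, 630, 1120] := by
  decide +kernel

theorem roots_ok : orbits.all (fun o => (fun m => popCount m == 3) o.1) = true := by decide +kernel

theorem decomp : maskCoding.Decomp {s : Finset GolayPt | s.card = 3} gens base orbits where
  fix := checks.1
  ok := checks.2.1
  inv := fun g _ hS => (Finset.card_smul_finset g _).trans hS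
  roots := fun o ho => by
    have h := List.all_eq_true.mp roots_ok o ho
    exact (card_ptsOf _).trans (beq_iff_eq.mp h)
  nodup := nodup_mask _ checks.2.2.1
  count := by
    rw [List.length_flatMap, sizes]
    have e : {s : Finset GolayPt | s.card = 3} = ↑((Finset.univ : Finset GolayPt).powersetCard 3) := by
      ext s; simp [Finset.mem_powersetCard]
    rw [e, Set.ncard_coe_finset, Finset.card_powersetCard, Finset.card_univ, card_golayPt]
    decide
  fin := Set.toFinite _

/-- The invariant separating the orbits. -/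
noncomputable def sig (x : Finset GolayPt) : ℕ × Bool :=
  ((ptsOf base ∩ x).card, decide ((octadsOver (ptsOf base ∪ x)).Nonempty))

theorem sig_smul (g : ↥M24) (hg : g • ptsOf base = ptsOf base) (x : Finset GolayPt) :
    sig (g • x) = sig x := by
  have h1 : (ptsOf base ∩ g • x).card = (ptsOf base ∩ x).card := by
    conv_lhs => rw [← hg]
    rw [← Finset.smul_finset_inter, Finset.card_smul_finset]
  have h2 : (octadsOver (ptsOf base ∪ g • x)).Nonempty ↔ (octadsOver (ptsOf base ∪ x)).Nonempty := by
    have e : ptsOf base ∪ g • x = g • (ptsOf base ∪ x) := by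
      rw [Finset.smul_finset_union, hg]
    rw [e]
    constructor
    · rintro ⟨o, ho⟩
      rw [mem_octadsOver] at ho
      exact ⟨g⁻¹ • o, mem_octadsOver.mpr ⟨smul_octad _ ho.1,
        Finset.smul_finset_subset_iff.mp ho.2⟩⟩
    · rintro ⟨o, ho⟩
      rw [mem_octadsOver] at ho
      exact ⟨g • o, mem_octadsOver.mpr ⟨smul_octad _ ho.1, Finset.smul_finset_subset_smul_finset ho.2⟩⟩
  simp only [sig, h1, h2]

/-- A computation of `sig` at a code. -/
def sigCode (m : ℕ) : ℕ × Bool :=
  (popCount (base &&& m),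
    (List.range 4096).any fun i => popCount (encode i) == 8 && (base ||| m) &&& encode i == base ||| m)

theorem ptsOf_subset_iff {a b : ℕ} (ha : a < 2 ^ 24) : ptsOf a ⊆ ptsOf b ↔ a &&& b = a := by
  rw [← Finset.inter_eq_left, ← ptsOf_land]
  refine ⟨fun h => ptsOf_injective (lt_of_le_of_lt Nat.and_le_left ha) ha h, fun h => by rw [h]⟩

theorem sig_code {m : ℕ} (hm : base ||| m < 2 ^ 24) : sig (ptsOf m) = sigCode m := by
  rw [sig, sigCode, ← ptsOf_land, card_ptsOf, ← ptsOf_lor]
  refine Prod.ext rfl ?_
  rw [Bool.eq_iff_iff, decide_eq_true_eq, List.any_eq_true]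
  constructor
  · rintro ⟨o, ho⟩
    rw [mem_octadsOver, mem_octads_iff] at ho
    obtain ⟨⟨hc, h8⟩, hsub⟩ := ho
    obtain ⟨i, hi, rfl⟩ := hc.exists_eq
    refine ⟨i, List.mem_range.mpr hi, ?_⟩
    rw [card_ptsOf] at h8
    simp [h8, (ptsOf_subset_iff hm).mp hsub]
  · rintro ⟨i, hi, h⟩
    simp only [Bool.and_eq_true, beq_iff_eq] at h
    exact ⟨ptsOf (encode i), mem_octadsOver.mpr ⟨mem_octads_iff.mpr
      ⟨encode_isCodeSet i, by rw [card_ptsOf, h.1]⟩, (ptsOf_subset_iff hm).mpr h.2⟩⟩

theorem sep : (orbits.map fun o => sig (ptsOf o.1)).Nodup := by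
  have hb : orbits.all (fun o => decide (base ||| o.1 < 2 ^ 24)) = true := by decide +kernel
  rw [List.map_congr_left (g := fun o => sigCode o.1)
    (fun o ho => sig_code (of_decide_eq_true (List.all_eq_true.mp hb o ho)))]
  decide +kernel

theorem transitive {x : Finset GolayPt} (hx : x ∈ {s : Finset GolayPt | s.card = 3}) :
    ∃ g : ↥M24, g • ptsOf base = x :=
  decomp.transitive maskCoding (t := tree0) (rest := [(root1, tree1), (root2, tree2), (root3, tree3), (root4, tree4)])
    rfl (fun a ha => List.all_eq_true.mp checks.2.2.2.1 a ha) checks.2.2.2.2.1 hx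

theorem exists_conj {x y z : Finset GolayPt} (hx : x ∈ {s : Finset GolayPt | s.card = 3}) (hy : y ∈ {s : Finset GolayPt | s.card = 3}) (hz : z ∈ {s : Finset GolayPt | s.card = 3})
    (he : ∀ g : ↥M24, g • ptsOf base = x → sig (g⁻¹ • y) = sig (g⁻¹ • z)) :
    ∃ g : ↥M24, g • x = x ∧ g • y = z := by
  obtain ⟨g, hg⟩ := transitive hx
  obtain ⟨h, h1, h2⟩ := decomp.exists_smul_eq sig sig_smul sep
    (decomp.inv g⁻¹ y hy) (decomp.inv g⁻¹ z hz) (he g hg)
  refine ⟨g * h * g⁻¹, ?_, ?_⟩
  · subst hg
    rw [mul_smul, mul_smul, inv_smul_smul]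
    exact congrArg (g • ·) h1
  · rw [mul_smul, mul_smul, h2, smul_inv_smul]

theorem root_ne : ptsOf root1 ≠ ptsOf base := fun h =>
  absurd (ptsOf_injective (by decide +kernel) (by decide +kernel) h) (by decide +kernel)

theorem isCoatom_stabilizer {x : Finset GolayPt} (hx : x ∈ {s : Finset GolayPt | s.card = 3}) :
    IsCoatom (MulAction.stabilizer ↥M24 x) := by
  obtain ⟨g, rfl⟩ := transitive hx
  refine isCoatom_stabilizer_smul g ?_
  exact decomp.isCoatom (D := maskCoding) (t := tree0) (o1 := (root1, tree1))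
    (rest := [(root2, tree2), (root3, tree3), (root4, tree4)]) rfl root_ne checks.2.2.2.2.2

end Cfsg.Agent.Lib.Golay.Suborbit.Triad
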