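/-
The orbits of the stabiliser of a dodecad on dodecads.
-/
import Cfsg.Agent.Lib.Golay.Orbits.Dodecad

set_option autoImplicit false
set_option maxRecDepth 1000000

namespace Cfsg.Agent.Lib.Golay.Suborbit.Dodecad

open Cfsg
open scoped Pointwise
open Cfsg.Agent.Lib.Orbit
open Cfsg.Agent.Lib.Golay.StabCert
open Cfsg.Agent.Lib.Golay.Orbits.Dodecad

theorem checks : maskCoding.gensFix gens base = true ∧ maskCoding.orbsOk gens orbits = true ∧
    distinctOk (fun m => decide (m < 2 ^ 24)) (fun m => m % 4096) (orbits.flatMap Coding.orbCodes) = true ∧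
    allGens.all inM24 = true ∧ maskCoding.linksOk allGens orbits [0] transLinks = true := by
  decide +kernel

theorem sizes : (orbits.map fun o => (Coding.orbCodes o).length) = [1, 1, 495, 495, 1584] := by
  decide +kernel

theorem roots_ok : orbits.all (fun o => (fun m => isCodeMask m && popCount m == 12) o.1) = true := by decide +kernel

theorem decomp : maskCoding.Decomp dodecads gens base orbits where
  fix := checks.1
  ok := checks.2.1
  inv := fun g _ hS => M24_dodecad g.2 hS
  roots := fun o ho => by
    have h := List.all_eq_true.mp roots_ok o ho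
    exact mem_dodecads_of_mask h
  nodup := nodup_mask _ checks.2.2.1
  count := by
    rw [ncard_dodecads, List.length_flatMap, sizes]
    rfl
  fin := Set.toFinite _

/-- The invariant separating the orbits. -/
def sig (x : Finset GolayPt) : ℕ := (ptsOf base ∩ x).card

theorem sig_smul (g : ↥M24) (hg : g • ptsOf base = ptsOf base) (x : Finset GolayPt) :
    sig (g • x) = sig x := by
  conv_lhs => rw [sig, ← hg]
  rw [← Finset.smul_finset_inter, Finset.card_smul_finset, sig]

theorem sig_code (m : ℕ) : sig (ptsOf m) = popCount (base &&& m) := by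
  rw [sig, ← ptsOf_land, card_ptsOf]

theorem sep : (orbits.map fun o => sig (ptsOf o.1)).Nodup := by
  simp only [sig_code]
  decide +kernel

theorem transitive {x : Finset GolayPt} (hx : x ∈ dodecads) :
    ∃ g : ↥M24, g • ptsOf base = x :=
  decomp.transitive maskCoding (t := tree0) (rest := [(root1, tree1), (root2, tree2), (root3, tree3), (root4, tree4)])
    rfl (fun a ha => List.all_eq_true.mp checks.2.2.2.1 a ha) checks.2.2.2.2 hx

theorem exists_conj {x y z : Finset GolayPt} (hx : x ∈ dodecads) (hy : y ∈ dodecads) (hz : z ∈ dodecads)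
    (he : ∀ g : ↥M24, g • ptsOf base = x → sig (g⁻¹ • y) = sig (g⁻¹ • z)) :
    ∃ g : ↥M24, g • x = x ∧ g • y = z := by
  obtain ⟨g, hg⟩ := transitive hx
  obtain ⟨h, h1, h2⟩ := decomp.exists_smul_eq sig sig_smul sep
    (decomp.inv g⁻¹ y hy) (decomp.inv g⁻¹ z hz) (he g hg)
  refine ⟨g * h * g⁻¹, ?_, ?_⟩
  · subst hg
    rw [mul_smul, mul_smul, inv_smul_smul]
    exact congrArg (g • ·) h1
  · rw [mul_smul, mul_smul, h2, smul_inv_smul]

end Cfsg.Agent.Lib.Golay.Suborbit.Dodecad
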