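/-
The intersection numbers of dodecads.
-/
import Cfsg.Agent.Lib.Golay.Suborbit.Dodecad

set_option autoImplicit false
set_option maxRecDepth 1000000

namespace Cfsg.Agent.Lib.Golay.Suborbit.Dodecad

open Cfsg
open scoped Pointwise
open Cfsg.Agent.Lib.Orbit
open Cfsg.Agent.Lib.Golay.StabCert
open Cfsg.Agent.Lib.Golay.Orbits.Dodecad

theorem table : (orbits.map fun o => (popCount (base &&& o.1), (Coding.orbCodes o).length))
    = [(12, 1), (0, 1), (8, 495), (4, 495), (6, 1584)] := by decide +kernel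

theorem count_meet {d : Finset GolayPt} (hd : d ∈ dodecads) {k n : ℕ}
    (hk : (k, n) ∈ (orbits.map fun o => (popCount (base &&& o.1), (Coding.orbCodes o).length))) :
    {d' : Finset GolayPt | d' ∈ dodecads ∧ (d ∩ d').card = k}.ncard = n := by
  obtain ⟨g, rfl⟩ := transitive hd
  obtain ⟨o, ho, e⟩ := List.mem_map.mp hk
  obtain ⟨rfl, rfl⟩ := Prod.mk.injEq _ _ _ _ ▸ e
  have hcls : {x : Finset GolayPt | x ∈ dodecads ∧ sig x = sig (ptsOf o.1)}
      = MulAction.orbit (MulAction.stabilizer ↥M24 (ptsOf base)) (ptsOf o.1) := by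
    ext x
    constructor
    · rintro ⟨hx, hs⟩
      obtain ⟨h, h1, h2⟩ := decomp.exists_smul_eq sig sig_smul sep (decomp.roots o ho) hx hs.symm
      exact ⟨⟨h, h1⟩, h2⟩
    · rintro ⟨h, rfl⟩
      exact ⟨decomp.inv h.1 _ (decomp.roots o ho), sig_smul h.1 h.2 _⟩
  have hset : {d' : Finset GolayPt | d' ∈ dodecads ∧ (g • ptsOf base ∩ d').card = popCount (base &&& o.1)}
      = (fun x => g • x) '' {x : Finset GolayPt | x ∈ dodecads ∧ sig x = sig (ptsOf o.1)} := by
    ext d'
    constructor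
    · rintro ⟨h1, h2⟩
      refine ⟨g⁻¹ • d', ⟨decomp.inv g⁻¹ d' h1, ?_⟩, smul_inv_smul g d'⟩
      rw [sig_code, ← h2, sig, ← Finset.card_smul_finset g, Finset.smul_finset_inter, smul_inv_smul]
    · rintro ⟨x, ⟨h1, h2⟩, rfl⟩
      refine ⟨decomp.inv g x h1, ?_⟩
      rw [← Finset.smul_finset_inter, Finset.card_smul_finset, ← sig_code o.1]
      exact h2
  rw [hset, Set.InjOn.ncard_image (MulAction.injective g).injOn, hcls]
  exact decomp.ncard_orbit sig sig_smul sep ho

theorem meet_cases {d d' : Finset GolayPt} (hd : d ∈ dodecads) (hd' : d' ∈ dodecads) (hne : d' ≠ d) :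
    (d ∩ d').card = 0 ∨ (d ∩ d').card = 4 ∨ (d ∩ d').card = 6 ∨ (d ∩ d').card = 8 := by
  obtain ⟨g, rfl⟩ := transitive hd
  obtain ⟨o, ho, h⟩ := decomp.exists_root (decomp.inv g⁻¹ d' hd')
  have hcard : (g • ptsOf base ∩ d').card = popCount (base &&& o.1) := by
    rw [← sig_code o.1, ← sig_smul_orbit (show g⁻¹ • d' ∈ MulAction.orbit
      (MulAction.stabilizer ↥M24 (ptsOf base)) (ptsOf o.1) from h), sig]
    conv_rhs => rw [← Finset.card_smul_finset g, Finset.smul_finset_inter, smul_inv_smul]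
  have hmem : (popCount (base &&& o.1), (Coding.orbCodes o).length)
      ∈ (orbits.map fun o => (popCount (base &&& o.1), (Coding.orbCodes o).length)) :=
    List.mem_map.mpr ⟨o, ho, rfl⟩
  have hne12 : (g • ptsOf base ∩ d').card ≠ 12 := by
    intro h12
    apply hne
    have h1 := (mem_dodecads_iff.mp hd).2
    have h2 := (mem_dodecads_iff.mp hd').2
    have e1 : g • ptsOf base ∩ d' = g • ptsOf base :=
      Finset.eq_of_subset_of_card_le Finset.inter_subset_left (by omega)
    have e2 : g • ptsOf base ∩ d' = d' :=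
      Finset.eq_of_subset_of_card_le Finset.inter_subset_right (by omega)
    exact e2.symm.trans e1
  rw [table] at hmem
  simp only [List.mem_cons, Prod.mk.injEq, List.not_mem_nil, or_false] at hmem
  omega
where
  sig_smul_orbit {x y : Finset GolayPt}
      (h : x ∈ MulAction.orbit (MulAction.stabilizer ↥M24 (ptsOf base)) y) : sig x = sig y := by
    obtain ⟨k, rfl⟩ := h
    exact sig_smul k.1 k.2 y

end Cfsg.Agent.Lib.Golay.Suborbit.Dodecad
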