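/-
The orbits of the stabiliser of a duad on duads.
-/
import Cfsg.Agent.Lib.Golay.Orbits.Duad

set_option autoImplicit false
set_option maxRecDepth 1000000

namespace Cfsg.Agent.Lib.Golay.Suborbit.Duad

open Cfsg
open scoped Pointwise
open Cfsg.Agent.Lib.Orbit
open Cfsg.Agent.Lib.Golay.StabCert
open Cfsg.Agent.Lib.Golay.Orbits.Duad

theorem checks : maskCoding.gensFix gens base = true ∧ maskCoding.orbsOk gens orbits = true ∧
    distinctOk (fun m => decide (m < 2 ^ 24)) (fun m => m % 1801) (orbits.flatMap Coding.orbCodes) = true ∧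
    allGens.all inM24 = true ∧ maskCoding.linksOk allGens orbits [0] transLinks = true ∧
    maskCoding.maxOk gens orbits maxWit = true := by
  decide +kernel

theorem sizes : (orbits.map fun o => (Coding.orbCodes o).length) = [1, 44, 231] := by
  decide +kernel

theorem roots_ok : orbits.all (fun o => (fun m => popCount m == 2) o.1) = true := by decide +kernel

theorem decomp : maskCoding.Decomp {s : Finset GolayPt | s.card = 2} gens base orbits where
  fix := checks.1
  ok := checks.2.1
  inv := fun g _ hS => (Finset.card_smul_finset g _).trans hS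
  roots := fun o ho => by
    have h := List.all_eq_true.mp roots_ok o ho
    exact (card_ptsOf _).trans (beq_iff_eq.mp h)
  nodup := nodup_mask _ checks.2.2.1
  count := by
    rw [List.length_flatMap, sizes]
    have e : {s : Finset GolayPt | s.card = 2} = ↑((Finset.univ : Finset GolayPt).powersetCard 2) := by
      ext s; simp [Finset.mem_powersetCard]
    rw [e, Set.ncard_coe_finset, Finset.card_powersetCard, Finset.card_univ, card_golayPt]
    decide
  fin := Set.toFinite _

/-- The invariant separating the orbits. -/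
def sig (x : Finset GolayPt) : ℕ := (ptsOf base ∩ x).card

theorem sig_smul (g : ↥M24) (hg : g • ptsOf base = ptsOf base) (x : Finset GolayPt) :
    sig (g • x) = sig x := by
  conv_lhs => rw [sig, ← hg]
  rw [← Finset.smul_finset_inter, Finset.card_smul_finset, sig]

theorem sig_code (m : ℕ) : sig (ptsOf m) = popCount (base &&& m) := by
  rw [sig, ← ptsOf_land, card_ptsOf]

theorem sep : (orbits.map fun o => sig (ptsOf o.1)).Nodup := by
  simp only [sig_code]
  decide +kernel

theorem transitive {x : Finset GolayPt} (hx : x ∈ {s : Finset GolayPt | s.card = 2}) :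
    ∃ g : ↥M24, g • ptsOf base = x :=
  decomp.transitive maskCoding (t := tree0) (rest := [(root1, tree1), (root2, tree2)])
    rfl (fun a ha => List.all_eq_true.mp checks.2.2.2.1 a ha) checks.2.2.2.2.1 hx

theorem exists_conj {x y z : Finset GolayPt} (hx : x ∈ {s : Finset GolayPt | s.card = 2}) (hy : y ∈ {s : Finset GolayPt | s.card = 2}) (hz : z ∈ {s : Finset GolayPt | s.card = 2})
    (he : ∀ g : ↥M24, g • ptsOf base = x → sig (g⁻¹ • y) = sig (g⁻¹ • z)) :
    ∃ g : ↥M24, g • x = x ∧ g • y = z := by
  obtain ⟨g, hg⟩ := transitive hx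
  obtain ⟨h, h1, h2⟩ := decomp.exists_smul_eq sig sig_smul sep
    (decomp.inv g⁻¹ y hy) (decomp.inv g⁻¹ z hz) (he g hg)
  refine ⟨g * h * g⁻¹, ?_, ?_⟩
  · subst hg
    rw [mul_smul, mul_smul, inv_smul_smul]
    exact congrArg (g • ·) h1
  · rw [mul_smul, mul_smul, h2, smul_inv_smul]

theorem root_ne : ptsOf root1 ≠ ptsOf base := fun h =>
  absurd (ptsOf_injective (by decide +kernel) (by decide +kernel) h) (by decide +kernel)

theorem isCoatom_stabilizer {x : Finset GolayPt} (hx : x ∈ {s : Finset GolayPt | s.card = 2}) :
    IsCoatom (MulAction.stabilizer ↥M24 x) := by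
  obtain ⟨g, rfl⟩ := transitive hx
  refine isCoatom_stabilizer_smul g ?_
  exact decomp.isCoatom (D := maskCoding) (t := tree0) (o1 := (root1, tree1))
    (rest := [(root2, tree2)]) rfl root_ne checks.2.2.2.2.2

end Cfsg.Agent.Lib.Golay.Suborbit.Duad
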