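/-
The two families of triads disjoint from a given one.
-/
import Cfsg.Agent.Lib.Golay.Suborbit.Triad

set_option autoImplicit false
set_option maxRecDepth 1000000

namespace Cfsg.Agent.Lib.Golay.Suborbit.Triad

open Cfsg
open scoped Pointwise
open Cfsg.Agent.Lib.Orbit
open Cfsg.Agent.Lib.Golay.StabCert
open Cfsg.Agent.Lib.Golay.Orbits.Triad

theorem sig_eq_iff (x : Finset GolayPt) (b : Bool) :
    sig x = (0, b) ↔ Disjoint (ptsOf base) x ∧
      (b = true ↔ ∃ o ∈ octads, ptsOf base ∪ x ⊆ o) := by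
  have h : (octadsOver (ptsOf base ∪ x)).Nonempty ↔ ∃ o ∈ octads, ptsOf base ∪ x ⊆ o :=
    ⟨fun ⟨o, ho⟩ => ⟨o, (mem_octadsOver.mp ho).1, (mem_octadsOver.mp ho).2⟩,
      fun ⟨o, h1, h2⟩ => ⟨o, mem_octadsOver.mpr ⟨h1, h2⟩⟩⟩
  rw [sig, Prod.mk.injEq, Finset.card_eq_zero, ← Finset.disjoint_iff_inter_eq_empty, ← h,
    ← Bool.coe_iff_coe, decide_eq_true_iff]
  exact and_congr_right fun _ => ⟨Iff.symm, Iff.symm⟩

theorem class_eq_orbit {o : ℕ × OrbTree ℕ} (ho : o ∈ orbits) :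
    {x : Finset GolayPt | x.card = 3 ∧ sig x = sig (ptsOf o.1)}
      = MulAction.orbit (MulAction.stabilizer ↥M24 (ptsOf base)) (ptsOf o.1) := by
  ext x
  constructor
  · rintro ⟨hx, hs⟩
    obtain ⟨h, h1, h2⟩ := decomp.exists_smul_eq sig sig_smul sep (decomp.roots o ho) hx hs.symm
    exact ⟨⟨h, h1⟩, h2⟩
  · rintro ⟨g, rfl⟩
    exact ⟨(Finset.card_smul_finset g.1 (ptsOf o.1)).trans (decomp.roots o ho),
      sig_smul g.1 g.2 _⟩

theorem counts {T : Finset GolayPt} (hT : T.card = 3) :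
    {U : Finset GolayPt | U.card = 3 ∧ Disjoint T U ∧ (∃ o ∈ octads, T ∪ U ⊆ o)}.ncard = 210 ∧
    {U : Finset GolayPt | U.card = 3 ∧ Disjoint T U ∧ ¬ (∃ o ∈ octads, T ∪ U ⊆ o)}.ncard = 1120 := by
  obtain ⟨g, rfl⟩ := transitive (x := T) hT
  have move : ∀ x : Finset GolayPt, (Disjoint (g • ptsOf base) (g • x) ↔ Disjoint (ptsOf base) x) ∧
      ((∃ o ∈ octads, g • ptsOf base ∪ g • x ⊆ o) ↔ ∃ o ∈ octads, ptsOf base ∪ x ⊆ o) := by
    intro x
    refine ⟨?_, ?_⟩
    · rw [Finset.disjoint_iff_inter_eq_empty, ← Finset.smul_finset_inter,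
        Finset.disjoint_iff_inter_eq_empty, Finset.smul_finset_eq_empty]
    · rw [← Finset.smul_finset_union]
      constructor
      · rintro ⟨o, ho, h⟩
        exact ⟨g⁻¹ • o, smul_octad _ ho, Finset.smul_finset_subset_iff.mp h⟩
      · rintro ⟨o, ho, h⟩
        exact ⟨g • o, smul_octad _ ho, Finset.smul_finset_subset_smul_finset h⟩
  have key : ∀ (b : Bool) (o : ℕ × OrbTree ℕ), o ∈ orbits → sig (ptsOf o.1) = (0, b) →
      ∀ k, (Coding.orbCodes o).length = k →
      {U : Finset GolayPt | U.card = 3 ∧ Disjoint (g • ptsOf base) U ∧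
        (b = true ↔ ∃ o ∈ octads, g • ptsOf base ∪ U ⊆ o)}.ncard = k := by
    intro b o ho hb k hk
    have e : {U : Finset GolayPt | U.card = 3 ∧ Disjoint (g • ptsOf base) U ∧
        (b = true ↔ ∃ o ∈ octads, g • ptsOf base ∪ U ⊆ o)}
        = (fun x => g • x) '' {x : Finset GolayPt | x.card = 3 ∧ sig x = sig (ptsOf o.1)} := by
      ext U
      constructor
      · rintro ⟨h1, h2, h3⟩
        refine ⟨g⁻¹ • U, ⟨by rw [Finset.card_smul_finset]; exact h1, ?_⟩, smul_inv_smul g U⟩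
        have hm := move (g⁻¹ • U)
        rw [smul_inv_smul] at hm
        rw [hb, sig_eq_iff]
        exact ⟨hm.1.mp h2, h3.trans hm.2⟩
      · rintro ⟨x, ⟨h1, h2⟩, rfl⟩
        rw [hb, sig_eq_iff] at h2
        exact ⟨(Finset.card_smul_finset g x).trans h1, (move x).1.mpr h2.1, h2.2.trans (move x).2.symm⟩
    rw [e, Set.InjOn.ncard_image (MulAction.injective g).injOn, class_eq_orbit ho, ← hk]
    exact decomp.ncard_orbit sig sig_smul sep ho
  have m2 : (root2, tree2) ∈ orbits :=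
    List.mem_cons_of_mem _ (List.mem_cons_of_mem _ List.mem_cons_self)
  have m4 : (root4, tree4) ∈ orbits :=
    List.mem_cons_of_mem _ (List.mem_cons_of_mem _ (List.mem_cons_of_mem _
      (List.mem_cons_of_mem _ List.mem_cons_self)))
  have hs : base ||| root2 < 2 ^ 24 ∧ base ||| root4 < 2 ^ 24 ∧ sigCode root2 = (0, true) ∧
      sigCode root4 = (0, false) := by decide +kernel
  refine ⟨?_, ?_⟩
  · have := key true _ m2 ((sig_code hs.1).trans hs.2.2.1) 210 (congrArg (fun l => List.getD l 2 0) sizes)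
    simpa using this
  · have := key false _ m4 ((sig_code hs.2.1).trans hs.2.2.2) 1120 (congrArg (fun l => List.getD l 4 0) sizes)
    simpa using this

end Cfsg.Agent.Lib.Golay.Suborbit.Triad
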